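import Cfsg.Agent.Screen.CosetEnum.Core

/-!
# Cosets of the table
-/

set_option autoImplicit false
set_option maxRecDepth 20000

namespace Cfsg.Agent.Chars.Fi22O7.P4

open Cfsg.Agent.Screen.CosetEnum

/-- Packed table, part 0. -/
def cosetTree0 : Tr :=
  (.leaf 0x7300000000ed0007000000000ea0006d00000000e70006b00000000e40006a00001000e10006700000000de0006500000000dc0006400001000da0006200000000d70006000000000d40005f00001000d20005d00000000cf0005c00001000cc0005b00002000c90005900000000c70005700000000c40005600001000c20005400000000bf0005300001000bd0005200002000bb0005000000000b90004f00001000b70004d00000000b50004c00001000b20004b00002000af0004a00000000ac0004900001000aa0004800002000a80004700003000a50004500000000a30004400001000a20004200000000a000041000010009d00040000020009a0003f00000000980003e00001000960003d00002000950003c00003000920003a000000008f00039000010008d00038000020008b00037000000008900036000010008700035000020008500034000030008300033000010008100032000020007e00031000030007c0003100000000790002f00000000770002e00001000750002d00002000730002c00000000710002b000010006f0002a000020006d00029000030006b00028000010006a00027000020006700026000030006500026000000006300025000000006100024000010005f00023000020005e00022000030005b0002100001000590002000002000570001f00003000550001f00000000530001e00002000510001d000030004f0001d000010004d0001c000000004c0001b000010004a0001a000020004900019000030004700018000010004500017000020004300016000030004100016000000003f00015000020003d00014000030003b00014000010003a0001300001000390001200002000360001100003000340001100000000320001000002000310000f00003000300000f000010002e0000e000030002b0000e00002000290000d00001000280000c00002000260000b00003000240000b00000000230000a000020002200009000030002100009000010001f00008000030001d00008000020001b00007000020001900006000030001700006000010001600005000030001400005000020001300005000000001100004000020001000003000030000f00003000010000e00002000030000c00002000020000b00002000000000a000010000300008000010000200006000010000100005000000000300004000000000200003000000000100002000000000000001000000000000000)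

/-- Packed table. -/
def cosetTree : Tr := cosetTree0

end Cfsg.Agent.Chars.Fi22O7.P4
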