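import Cfsg.Agent.Screen.CosetEnum.Core

/-!
# Facts of the certificate
-/

set_option autoImplicit false
set_option maxRecDepth 20000

namespace Cfsg.Agent.Chars.Fi22O7.P4

open Cfsg.Agent.Screen.CosetEnum

/-- Packed table, part 0. -/
def factTree0 : Tr :=
  (.leaf 0xea00003000ed000e700002000ed000e400001000ed000ed00000000e1000de00002000ea000dc00001000ea000ea00000000da000d700003000e7000d400001000e7000e700000000d2000dc00003000e4000cf00002000e4000e400000000cc000da00003000e1000d200002000e1000e100001000c9000c700003000de000c400001000de000de00000000c2000bf00002000dc000dc00000000bd000c200002000da000da00001000bb000c700002000d7000b900001000d7000d700000000b7000b900003000d4000b500002000d4000d400000000b2000b700003000d2000d200001000af000ac00003000cf000b500001000cf000cf00000000aa000bd00003000cc000aa00002000cc000cc00001000a8000bb00003000c9000a800000000c9000c900002000a5000a300001000c7000c700000000a2000a300003000c4000a000002000c4000c4000000009d000a200003000c2000c2000010009a0009800003000bf000a000001000bf000bf00000000960009600002000bd000bd00001000950009500000000bb000bb00002000920008f00002000b9000b9000000008d000a200002000b7000b7000010008b0008900003000b5000b500000000870008d00003000b20008700002000b2000b200001000850008b00003000af0008500000000af000af00002000830009800002000ac0008900001000ac000ac00000000810008100003000aa000aa000010007e0009500003000a8000a8000020007c0008300001000a50007c00000000a5000a5000030007900077000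02000a3000a30000000075000a200001000730007100003000a0000a0000000006f00075000030009d0006f000020009d0009d000010006d00073000030009a0006d000000009a0009a000020006b00071000010009800098000000006a0006a00003000960009600001000670009500002000650006b000010009200065000000009200092000030006300061000030008f00077000010008f0008f000000005f0005f000020008d0008d000010005e0005e000000008b0008b000020005b0006100002000890008900000000590005900003000870008700001000570005e00003000850008500002000550005500000000830008300003000530006a000020008100081000010005100051000030007e00057000000007e0007e000020004f0004f000010007c0007c000030004d00063000020007900053000010007900079000000004d0004c000030007700077000000004a0004a00002000750007500001000490004900000000730007300002000470004c000020007100071000000004500045000030006f0006f000010004300049000030006d0006d000020004100041000000006b0006b000030003f0006a000010003d0003d000030006700043000000006700067000020003b0003b000010006500065000030003a0003f000010006300063000000003a0004c000010006100061000000003900039000030005f0005f00001000360005e000020003400047000010005b00034000000005b0005b000030003200039000020005900059000010003100031000030005700057000020003000030000010005500055000030002e00032000020005300053000000002e00031000000005100051000020002b00030000000004f0004f00003000290003a000020004d0004d00001000290004c000000002800028000030004a0004a00001000260004900002000240002400000000470004700003000230002800002000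4500045000010002200022000030004300043000020002100021000010004100041000030001f00023000020003f0003f000000001f00022000000003d0003d000020001d00021000000003b0003b000030001b0003a000010001b00039000010001900019000030003600026000000003600036000020001700017000010003400034000030001600023000010003200032000000001600031000020001400030000030001300016000020002e0002e00001000130001d000010002b00014000000002b0002b000030001100013000000002900029000020001100028000010001000010000030002600026000020000f0000f000010002400024000030000e00023000000000e00022000020000c00021000030000b0000e000020001f0001f000010000b0000c000000001d0001d000030000a0000b000000001b0001b000020000a0001000000000190001900002000080000f00000000170001700003000060001600001000060000800001000140001400003000050001300002000050000a00001000110001100000000050001000002000040000f00003000030000e000010000300004000010000c0000c00003000020000b00002000020000a0000000002000040000000008000080000300001000030000000006000060000200001000050000100001000040000300000000030000200000000020000100000000010000000000)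

/-- Packed table. -/
def factTree : Tr := factTree0

end Cfsg.Agent.Chars.Fi22O7.P4
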